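import Cfsg.Agent.H958.L34.Five
import Cfsg.Agent.H194.Pw.Six
import Cfsg.Agent.H150.E6T.Hom

/-!
# S5917 (`L₃(4)` in `E₈(2)`), the element of order 5: the two subgroups `SL₅` (helper958)

* `P k : SL₅(KK) → E₈(KK)`, `P_tv`, `P_comm`;
* `fm`, `th`, `phi_P`, `g5_P0`, `g5_P1`.
-/

set_option autoImplicit false
set_option linter.unusedSectionVars false
set_option maxRecDepth 100000

namespace Cfsg.Agent.H958.L34

open CoxeterSystem Cfsg Cfsg.Lie Cfsg.Lie.ChevalleyDatum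
open Cfsg.Agent.ChevalleyStructure Cfsg.Agent.ChevalleyStructure.Elts Cfsg.Agent.ChevalleyStructure.CoxeterGeom
  Cfsg.Agent.ChevalleyStructure.CoxeterGeomTypes Cfsg.Agent.ChevalleyStructure.NPerm
open Cfsg.Agent.Tits.Roots Cfsg.Agent.Tits.Core Cfsg.Agent.Nodes Cfsg.Agent.Nodes.Reps Cfsg.Agent.Nodes.BNOf
  Cfsg.Agent.Nodes.RGDChev Cfsg.Agent.Nodes.Bruhat Cfsg.Agent.Nodes.SubComb Cfsg.Agent.Nodes.Coroot
open Cfsg.Agent.KFacts.RgdField Cfsg.Agent.KFacts.RgdChevCoord Cfsg.Agent.BpExc.TorCent Cfsg.Agent.BpExc.TorChev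
open Cfsg.Agent.GpExc.Field Cfsg.Agent.BpExc.Tow Cfsg.Agent.BpExc.TowChev Cfsg.Agent.BpExc.Fr
  Cfsg.Agent.BpExc.LangFr Cfsg.Agent.LangThm Cfsg.Agent.BpExc Cfsg.Agent.H129.TorusMain Cfsg.Agent.H129.TorusUntw
open Cfsg.Agent.TitsThree.KExcRT
open Cfsg.Agent.H897.T5Frame (bc rc bf_eq)
open Cfsg.Agent.H897.T5UntwRow (A8)
open Cfsg.Agent.BpExc.RowsUntw (e8T)
open Cfsg.Agent.H939.L64 (KK E2 em)
open Cfsg.Agent.H413.L64 (charKK)
open Cfsg.Agent.H413.L16 (cs8 act Good hA8 nn nr comm_xc phi_xc cast_unit xr)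
open Cfsg.Agent.H150.E6T (commute_hom)

abbrev S5 : Type := Matrix.SpecialLinearGroup (Fin 5) KK

/-- the signs of the root elements -/
def sg5 : Fin 2 → Fin 5 → Fin 5 → ℤ :=
  ![![![1, 1, 1, 1, 1], ![1, 1, -1, -1, -1], ![1, -1, 1, -1, 1], ![1, -1, -1, 1, -1], ![1, -1, 1, -1, 1]],
    ![![1, 1, 1, 1, 1], ![1, 1, 1, 1, 1], ![1, 1, 1, 1, 1], ![1, 1, 1, 1, 1], ![1, 1, 1, 1, 1]]]

theorem sg5_unit : ∀ k i j, sg5 k i j = 1 ∨ sg5 k i j = -1 := by decide

theorem tab_hom : ∀ k : Fin 2, RTa chevE8 (a5 k) ∧ RTb chevE8 (a5 k) (sg5 k) ∧ RTc chevE8 (a5 k) ∧ RTd (sg5 k) ∧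
    (∀ i j, sg5 k j i = sg5 k i j) ∧ ∀ i j, i ≠ j → a5 k j i = chevE8.neg (a5 k i j) := by decide +kernel

theorem a5_root {k : Fin 2} {i j : Fin 5} (h : i ≠ j) : IsRoot cs8 e8T.isCartan (vec chevE8 8 (a5 k i j)) :=
  (isRoot_iff e8T cs8 _).2 ⟨_, by rw [nr]; exact a5_lt k i j h, rfl⟩

theorem exists_P (k : Fin 2) : ∃ φ : S5 →* ↥(chevE8.group KK), ∀ a b (hab : a ≠ b) c,
    φ (Matrix.SpecialLinearGroup.transvection hab c) = xr (a5 k a b) c := by
  obtain ⟨h1, h2, h3, h4, h5, h6⟩ := tab_hom k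
  obtain ⟨φ, hφ⟩ := Cfsg.Agent.H194.Pw.exists_hom_S (K := KK) e8T h1 h2 h3 h4 h5 h6
  refine ⟨φ, fun a b hab c => ?_⟩
  rw [hφ, cast_unit (sg5_unit k a b), one_mul]
  rfl

/-- **the component `k`** -/
noncomputable def P (k : Fin 2) : S5 →* ↥(chevE8.group KK) := (exists_P k).choose

theorem P_tv (k : Fin 2) {a b : Fin 5} (hab : a ≠ b) (c : KK) :
    P k (Matrix.SpecialLinearGroup.transvection hab c) = xr (a5 k a b) c := (exists_P k).choose_spec a b hab c

theorem tab_orth : ∀ k l : Fin 2, k ≠ l → ∀ a b c d : Fin 5, a ≠ b → c ≠ d →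
    bc A8 (vec chevE8 8 (a5 k a b)) (vec chevE8 8 (a5 l c d)) = 0 := by decide +kernel

theorem P_comm {k l : Fin 2} (h : k ≠ l) (A B : S5) : Commute (P k A) (P l B) := by
  refine commute_hom _ _ (fun a b hab c => (commute_hom _ _ (fun a' b' hab' d => ?_) B).symm) A
  rw [P_tv, P_tv]
  exact comm_xc (a5_root hab') (a5_root hab) (tab_orth l k h.symm _ _ _ _ hab' hab) _ _

/-- homomorphisms from `SL₅` -/
theorem hom_ext5 {Y : Type*} [Group Y] {f g : S5 →* Y}
    (h : ∀ a b (hab : a ≠ b) c, f (Matrix.SpecialLinearGroup.transvection hab c) =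
      g (Matrix.SpecialLinearGroup.transvection hab c)) : f = g := by
  have h1 : (⊤ : Subgroup S5) ≤ MonoidHom.eqLocus f g := by
    rw [← Cfsg.Agent.LieClassical.SLGen.closure_transvections, Subgroup.closure_le]
    rintro _ ⟨a, b, hab, c, rfl⟩
    exact h a b hab c
  exact MonoidHom.ext fun A => h1 (Subgroup.mem_top A)

/-! ### the inverse transpose and the Frobenius map -/

/-- `A ↦ A⁻ᵀ` -/
noncomputable def th : S5 →* S5 where
  toFun A := (A⁻¹).transpose
  map_one' := by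
    apply Subtype.ext
    rw [inv_one]
    simp
  map_mul' A B := by
    apply Subtype.ext
    rw [_root_.mul_inv_rev]
    simp [Matrix.transpose_mul]

theorem th_coe (A : S5) : (th A).1 = (A⁻¹).1.transpose := rfl

theorem tv_coe {i j : Fin 5} (hij : i ≠ j) (c : KK) :
    (Matrix.SpecialLinearGroup.transvection hij c : S5).1 = 1 + Matrix.single i j c := rfl

theorem tv_inv {i j : Fin 5} (hij : i ≠ j) (c : KK) :
    (Matrix.SpecialLinearGroup.transvection hij c : S5)⁻¹ = Matrix.SpecialLinearGroup.transvection hij c := by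
  refine inv_eq_of_mul_eq_one_left (Subtype.ext ?_)
  have h0 : Matrix.single i j c * Matrix.single i j c = (0 : Matrix (Fin 5) (Fin 5) KK) := by
    simp [hij.symm]
  rw [Matrix.SpecialLinearGroup.coe_mul, tv_coe, mul_add, add_mul, one_mul, mul_one, Matrix.SpecialLinearGroup.coe_one,
    add_mul, one_mul, h0, add_zero, add_assoc, ← Matrix.single_add]
  have : c + c = 0 := by rw [← two_mul, Cfsg.Agent.H876.L64.two_zero, zero_mul]
  rw [this, Matrix.single_zero, add_zero]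

theorem th_tv {i j : Fin 5} (hij : i ≠ j) (c : KK) :
    th (Matrix.SpecialLinearGroup.transvection hij c) = Matrix.SpecialLinearGroup.transvection hij.symm c := by
  apply Subtype.ext
  rw [th_coe, tv_inv, tv_coe, tv_coe, Matrix.transpose_add, Matrix.transpose_one, Matrix.transpose_single]

/-- the Frobenius map -/
noncomputable def frK : KK →+* KK := by
  haveI := charKK
  exact frobenius KK 2

theorem frK_apply (c : KK) : frK c = c ^ 2 := rfl

/-- the entrywise square -/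
noncomputable def fm : S5 →* S5 := Matrix.SpecialLinearGroup.map frK

theorem fm_coe (A : S5) : (fm A).1 = A.1.map fun x => x ^ 2 := rfl

theorem fm_tv {i j : Fin 5} (hij : i ≠ j) (c : KK) :
    fm (Matrix.SpecialLinearGroup.transvection hij c) = Matrix.SpecialLinearGroup.transvection hij (c ^ 2) := by
  apply Subtype.ext
  ext a b
  rw [fm_coe, Matrix.map_apply, tv_coe, tv_coe, Matrix.add_apply, Matrix.add_apply, Matrix.one_apply,
    Matrix.single_apply, Matrix.single_apply]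
  split_ifs with h1 h2 h2
  · exact absurd (h2.1.trans (h1.trans h2.2.symm)) hij
  · rw [add_zero, one_pow]
  · rw [zero_add, zero_add]
  · rw [add_zero, zero_pow two_ne_zero]

theorem phi_P (k : Fin 2) (A : S5) : phi chevE8 KK 2 1 (P k A) = P k (fm A) := by
  have h2 : (phi chevE8 KK 2 1).toMonoidHom.comp (P k) = (P k).comp fm := by
    refine hom_ext5 fun a b hab c => ?_
    show phi chevE8 KK 2 1 (P k _) = P k (fm _)
    rw [fm_tv, P_tv, P_tv]
    exact phi_xc _ _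
  exact DFunLike.congr_fun h2 A

/-! ### the element `g5` -/

theorem act_plus {w : CoxeterMatrix.E₈.Group} {g : ↥(chevE8.group KK)} (hg : Good w g) {k l : Fin 2}
    (h : ∀ i j : Fin 5, i ≠ j → act w (vec chevE8 8 (a5 k i j)) = vec chevE8 8 (a5 l i j)) (A : S5) :
    g * P k A * g⁻¹ = P l A := by
  have h1 : (MulAut.conj g).toMonoidHom.comp (P k) = P l := by
    refine hom_ext5 fun a b hab c => ?_
    show g * P k _ * g⁻¹ = _
    rw [P_tv, P_tv]
    show g * xc e8T (vec chevE8 8 (a5 k a b)) c * g⁻¹ = xc e8T (vec chevE8 8 (a5 l a b)) c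
    rw [hg.conj _ (by rw [nr]; exact a5_lt k a b hab), h a b hab]
  exact DFunLike.congr_fun h1 A

theorem act_minus {w : CoxeterMatrix.E₈.Group} {g : ↥(chevE8.group KK)} (hg : Good w g) {k l : Fin 2}
    (h : ∀ i j : Fin 5, i ≠ j → act w (vec chevE8 8 (a5 k i j)) = vec chevE8 8 (a5 l j i)) (A : S5) :
    g * P k A * g⁻¹ = P l (th A) := by
  have h1 : (MulAut.conj g).toMonoidHom.comp (P k) = (P l).comp th := by
    refine hom_ext5 fun a b hab c => ?_
    show g * P k _ * g⁻¹ = P l (th _)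
    rw [th_tv, P_tv, P_tv]
    show g * xc e8T (vec chevE8 8 (a5 k a b)) c * g⁻¹ = xc e8T (vec chevE8 8 (a5 l b a)) c
    rw [hg.conj _ (by rw [nr]; exact a5_lt k a b hab), h a b hab]
  exact DFunLike.congr_fun h1 A

theorem tab_L5 : ∀ i j : Fin 5, i ≠ j →
    (L5.map fun r => vec chevE8 8 r).foldr (rc A8) (vec chevE8 8 (a5 0 i j)) = vec chevE8 8 (a5 1 i j) ∧
    (L5.map fun r => vec chevE8 8 r).foldr (rc A8) (vec chevE8 8 (a5 1 i j)) = vec chevE8 8 (a5 0 j i) := by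
  decide +kernel

theorem g5_P0 (A : S5) : g5 * P 0 A * g5⁻¹ = P 1 A := by
  obtain ⟨w, hw, hL⟩ := good_g5
  refine act_plus hw (fun i j h => ?_) A
  rw [hL]
  exact (tab_L5 i j h).1

theorem g5_P1 (A : S5) : g5 * P 1 A * g5⁻¹ = P 0 (th A) := by
  obtain ⟨w, hw, hL⟩ := good_g5
  refine act_minus hw (fun i j h => ?_) A
  rw [hL]
  exact (tab_L5 i j h).2

end Cfsg.Agent.H958.L34
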